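import Cfsg.Agent.FiTwenty.Transp
import Cfsg.Agent.FiThree.Normal

/-!
The transpositions of the presented Fischer group on ten letters as points, and elements given by image tables.
-/

set_option autoImplicit false
set_option maxRecDepth 20000

namespace Cfsg.Lib.FiBig

open Cfsg.Lib.CosetCert Cfsg.Lib.PermCert Cfsg.Lib.FiTwenty MulAction
open Cfsg.Lib.FiThree (img allB allB_iff evs eqOn eqOn_iff img_eq_ap)

/-- The group. -/
abbrev Fj := Cfsg.Spor.Fi23

attribute [local irreducible] sig0 sig1 sig2 sig3 sig4 sig5 sig6 sig7 sig8 sig9 sig10 subPts subIdx subTree1Mask subTree2Mask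

/-- The transposition of a point. -/
noncomputable def tr (p : Fin 31671) : Fj :=
  haveI := transitive
  (exists_smul_eq Fj p0 p).choose * imZ 10 * (exists_smul_eq Fj p0 p).choose⁻¹

theorem tr_orbit (g : Fj) : tr (g • p0) = g * imZ 10 * g⁻¹ := by
  haveI := transitive
  set k := (exists_smul_eq Fj p0 (g • p0)).choose with hk
  have e : k • p0 = g • p0 := (exists_smul_eq Fj p0 (g • p0)).choose_spec
  have hmem : g⁻¹ * k ∈ lgp imZ lamH := by
    rw [← stab_eq, mem_stabilizer_iff, mul_smul, e, inv_smul_smul]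
  have hc := z_comm hmem
  show k * imZ 10 * k⁻¹ = _
  calc k * imZ 10 * k⁻¹ = g * (g⁻¹ * k * imZ 10) * k⁻¹ := by group
    _ = g * (imZ 10 * (g⁻¹ * k)) * k⁻¹ := by rw [hc]
    _ = g * imZ 10 * g⁻¹ := by group

theorem tr_p0 : tr p0 = imZ 10 := by
  simpa using tr_orbit 1

theorem tr_smul (g : Fj) (p : Fin 31671) : tr (g • p) = g * tr p * g⁻¹ := by
  haveI := transitive
  obtain ⟨h, rfl⟩ := exists_smul_eq Fj p0 p
  rw [← mul_smul, tr_orbit, tr_orbit]
  group

theorem tr_mul_self (p : Fin 31671) : tr p * tr p = 1 := by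
  haveI := transitive
  obtain ⟨h, rfl⟩ := exists_smul_eq Fj p0 p
  rw [tr_orbit, show h * imZ 10 * h⁻¹ * (h * imZ 10 * h⁻¹) = h * (imZ 10 * imZ 10) * h⁻¹ by group, z_sq, mul_one,
    mul_inv_cancel]

theorem tr_inv (p : Fin 31671) : (tr p)⁻¹ = tr p := inv_eq_of_mul_eq_one_left (tr_mul_self p)

theorem tr_mem (p : Fin 31671) : tr p ∈ transp := by
  haveI := transitive
  obtain ⟨h, rfl⟩ := exists_smul_eq Fj p0 p
  exact mem_transp.2 ⟨h, (tr_orbit h).symm⟩

theorem tr_bijective : Function.Bijective fun p : Fin 31671 => (⟨tr p, tr_mem p⟩ : transp) :=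
  (Nat.bijective_iff_surjective_and_card _).2 ⟨fun ⟨x, hx⟩ => by
    obtain ⟨g, rfl⟩ := mem_transp.1 hx
    exact ⟨g • p0, Subtype.ext (tr_orbit g)⟩, by rw [card_transp, Nat.card_fin]⟩

theorem tr_inj {p q : Fin 31671} (h : tr p = tr q) : p = q := tr_bijective.1 (Subtype.ext h)

theorem tr_surj {x : Fj} (hx : x ∈ transp) : ∃ p, tr p = x :=
  (tr_bijective.2 ⟨x, hx⟩).imp fun _ h => congrArg Subtype.val h

theorem commute_tr (g : Fj) (p : Fin 31671) : Commute g (tr p) ↔ g • p = p := by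
  constructor
  · intro h
    refine tr_inj ?_
    rw [tr_smul, h.eq, mul_inv_cancel_right]
  · intro h
    have := tr_smul g p
    rw [h] at this
    exact (eq_mul_inv_iff_mul_eq.1 this).symm

/-- The element acts by the table. -/
def At (g : Fj) (t : ℕ) : Prop := ∀ p : Fin 31671, ((g • p : Fin 31671) : ℕ) = img t p.val

theorem eq_of_smul {g h : Fj} (H : ∀ p : Fin 31671, g • p = h • p) : g = h :=
  faithful_all.2 (Equiv.ext fun p => by rw [← smul_eq, ← smul_eq, H p])

theorem At.unique {g h : Fj} {t : ℕ} (hg : At g t) (hh : At h t) : g = h :=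
  eq_of_smul fun p => Fin.ext (by rw [hg p, hh p])

/-- The table of some element. -/
def Ok (t : ℕ) : Prop := ∃ g : Fj, At g t

open scoped _root_.Classical in
/-- The element of a table. -/
noncomputable def el (t : ℕ) : Fj := if h : Ok t then h.choose else 1

theorem Ok.at_el {t : ℕ} (h : Ok t) : At (el t) t := by
  rw [el, dif_pos h]
  exact h.choose_spec

theorem At.el_eq {g : Fj} {t : ℕ} (h : At g t) : el t = g := Ok.at_el ⟨g, h⟩ |>.unique h

theorem Ok.smul {t : ℕ} (h : Ok t) (p : Fin 31671) : ((el t • p : Fin 31671) : ℕ) = img t p.val := h.at_el p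

/-- The product of a list of tables. -/
noncomputable def elW (w : List ℕ) : Fj := (w.map el).prod

theorem elW_smul : ∀ {w : List ℕ}, (∀ t ∈ w, Ok t) → ∀ p : Fin 31671, ((elW w • p : Fin 31671) : ℕ) = evs w p.val
  | [], _, p => by simp [elW, evs]
  | t :: r, h, p => by
    have e : elW (t :: r) = el t * elW r := by simp [elW]
    rw [e, mul_smul, (h t List.mem_cons_self).smul, elW_smul (fun a ha => h a (List.mem_cons_of_mem t ha))]
    rfl

/-- The table is the product of the listed ones, on all points. -/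
def comp (u : ℕ) (w : List ℕ) : Bool := allB (fun x => Nat.beq (img u x) (evs w x)) 31671

theorem At.of_comp {u : ℕ} {w : List ℕ} (hw : ∀ t ∈ w, Ok t) (h : comp u w = true) : At (elW w) u := fun p => by
  rw [elW_smul hw]
  exact (Nat.eq_of_beq_eq_true (allB_iff.1 h p.val p.isLt)).symm

/-- The transposition of a point acts by the table. -/
def TT (y t : ℕ) : Prop := ∃ h : y < 31671, At (tr ⟨y, h⟩) t

theorem TT.ok {y t : ℕ} : TT y t → Ok t := fun ⟨_, h⟩ => ⟨_, h⟩

theorem TT.el_eq {y t : ℕ} (h : TT y t) : el t = tr ⟨y, h.1⟩ := h.2.el_eq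

theorem TT.step {a b ta tb u y : ℕ} (ha : TT a ta) (hb : TT b tb) (h : comp u [ta, tb, ta] = true)
    (hy : Nat.beq (img ta b) y = true) : TT y u := by
  obtain rfl := Nat.eq_of_beq_eq_true hy
  obtain ⟨ha', hta⟩ := ha
  obtain ⟨hb', htb⟩ := hb
  have hu := At.of_comp (u := u) (w := [ta, tb, ta]) (by
    simp only [List.mem_cons, List.not_mem_nil, or_false]
    rintro t (rfl | rfl | rfl) <;> exact ⟨_, by assumption⟩) h
  have e : elW [ta, tb, ta] = tr (tr ⟨a, ha'⟩ • ⟨b, hb'⟩) := by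
    rw [tr_smul, tr_inv]
    simp [elW, hta.el_eq, htb.el_eq, mul_assoc]
  rw [e] at hu
  have hv : ((tr ⟨a, ha'⟩ • ⟨b, hb'⟩ : Fin 31671) : ℕ) = img ta b := hta ⟨b, hb'⟩
  exact ⟨hv ▸ Fin.isLt _, by convert hu using 3; exact hv.symm⟩

theorem letter_at {k : ℕ} (hk : k < 11) : At (imZ k) (sigTabs.getD k (0, 0)).1 := fun p => by
  rw [smul_eq, (psi_act k hk).2, perm_apply (psi_act k hk).1, img_eq_ap]

theorem tt_zero : TT 0 (sigTabs.getD 10 (0, 0)).1 :=
  ⟨by norm_num, (show tr ⟨0, by norm_num⟩ = imZ 10 from tr_p0) ▸ letter_at (by norm_num)⟩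

end Cfsg.Lib.FiBig
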